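import Mathlib

/-!
Six relations give a subgroup isomorphic to `PGL(2, 23)`.

If `u, h, w` satisfy `u ^ 23 = 1`, `h ^ 22 = 1`, `h u h⁻¹ = u ^ 5`, `w ^ 2 = 1`, `w h w = h⁻¹`, `(w u) ^ 3 = 1`
and `u ≠ 1`, then the Bruhat normal form gives an embedding of `GL(2, 23)` modulo its centre.
-/

set_option autoImplicit false

namespace Cfsg.Agent.H33.J4Pgl

instance fact23 : Fact (Nat.Prime 23) := ⟨by norm_num⟩

/-- the Weyl matrix -/
abbrev Wm : Matrix (Fin 2) (Fin 2) (ZMod 23) := !![0, -1; 1, 0]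

/-- discrete logarithm to base `5` modulo `23` -/
def lg (a : ZMod 23) : ℕ :=
  [0, 0, 2, 16, 4, 1, 18, 19, 6, 10, 3, 9, 20, 14, 21, 17, 8, 7, 12, 15, 5, 13, 11].getD a.val 0

theorem lg_mul : ∀ a b : ZMod 23, a ≠ 0 → b ≠ 0 → lg (a * b) ≡ lg a + lg b [MOD 22] := by
  decide +kernel

theorem lg_pow : ∀ a : ZMod 23, a ≠ 0 → (5 : ZMod 23) ^ lg a = a := by decide +kernel

theorem lg_five : lg 5 = 1 := by decide +kernel

theorem lg_one : lg 1 = 0 := by decide +kernel

variable {G : Type*} [Group G]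

/-- the relations -/
structure Rels (u h w : G) : Prop where
  u23 : u ^ 23 = 1
  u_ne : u ≠ 1
  h22 : h ^ 22 = 1
  hu : h * u * h⁻¹ = u ^ 5
  ww : w * w = 1
  wh : w * h * w = h⁻¹
  wu : w * u * (w * u) * (w * u) = 1

/-- powers of the unipotent generator -/
def U (u : G) (s : ZMod 23) : G := u ^ s.val

/-- powers of the torus generator -/
def H (h : G) (a : ZMod 23) : G := h ^ lg a

/-- the normal form -/
def form (u h w : G) (g : Matrix (Fin 2) (Fin 2) (ZMod 23)) : G :=
  if g 1 0 = 0 then U u (g 0 1 / g 1 1) * H h (g 0 0 / g 1 1)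
  else U u (g 0 0 / g 1 0) * w * H h (g 1 0 * g 1 0 / g.det) * U u (g 1 1 / g 1 0)

variable {u h w : G} (R : Rels u h w)
include R

theorem U_add (s t : ZMod 23) : U u s * U u t = U u (s + t) := by
  rw [U, U, U, ← pow_add, ZMod.val_add, ← pow_eq_pow_mod _ R.u23]

theorem U_zero : U u 0 = 1 := by simp [U]

theorem U_neg (s : ZMod 23) : (U u s)⁻¹ = U u (-s) := by
  apply inv_eq_of_mul_eq_one_right
  rw [U_add R, add_neg_cancel, U_zero R]

theorem U_one : U u 1 = u := by rw [U, ZMod.val_one, pow_one]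

theorem H_mul {a b : ZMod 23} (ha : a ≠ 0) (hb : b ≠ 0) : H h a * H h b = H h (a * b) := by
  rw [H, H, H, ← pow_add]
  exact (pow_eq_pow_of_modEq (lg_mul a b ha hb).symm R.h22)

theorem H_one : H h 1 = 1 := by rw [H, lg_one, pow_zero]

theorem H_inv {a : ZMod 23} (ha : a ≠ 0) : (H h a)⁻¹ = H h a⁻¹ := by
  apply inv_eq_of_mul_eq_one_right
  rw [H_mul R ha (inv_ne_zero ha), mul_inv_cancel₀ ha, H_one R]

theorem conj_pow_u (k : ℕ) : h ^ k * u * (h ^ k)⁻¹ = u ^ (5 ^ k) := by
  induction k with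
  | zero => simp
  | succ k ih =>
    calc h ^ (k + 1) * u * (h ^ (k + 1))⁻¹ = h * (h ^ k * u * (h ^ k)⁻¹) * h⁻¹ := by
          rw [pow_succ']; group
      _ = u ^ (5 ^ (k + 1)) := by rw [ih, ← conj_pow, R.hu, ← pow_mul, ← pow_succ']

theorem H_conj {a : ZMod 23} (ha : a ≠ 0) (s : ZMod 23) : H h a * U u s * (H h a)⁻¹ = U u (a * s) := by
  rw [H, U, U, ← conj_pow, conj_pow_u R, ← pow_mul]
  refine pow_eq_pow_of_modEq ?_ R.u23
  rw [← ZMod.natCast_eq_natCast_iff]
  push_cast
  rw [ZMod.natCast_val, ZMod.natCast_val, ZMod.cast_id, ZMod.cast_id, lg_pow a ha]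

theorem H_U {a : ZMod 23} (ha : a ≠ 0) (s : ZMod 23) : H h a * U u s = U u (a * s) * H h a := by
  rw [← H_conj R ha s]; group

theorem U_H {a : ZMod 23} (ha : a ≠ 0) (s : ZMod 23) : U u s * H h a = H h a * U u (s / a) := by
  rw [H_U R ha, mul_div_cancel₀ s ha]

theorem w_inv : w⁻¹ = w := inv_eq_of_mul_eq_one_left R.ww

theorem w_H {a : ZMod 23} (ha : a ≠ 0) : w * H h a = H h a⁻¹ * w := by
  have h1 : w * H h a * w⁻¹ = (H h a)⁻¹ := by
    rw [H, ← conj_pow, w_inv R, R.wh, inv_pow]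
  rw [← H_inv R ha, ← h1]; group

theorem H_w {a : ZMod 23} (ha : a ≠ 0) : H h a * w = w * H h a⁻¹ := by
  rw [w_H R (inv_ne_zero ha), inv_inv]

theorem w_u_w : w * u * w = u⁻¹ * w * u⁻¹ := by
  have h1 := R.wu
  have h2 : w * u * w * u * w = u⁻¹ := by
    apply mul_right_cancel (b := u)
    rw [inv_mul_cancel, ← h1]; simp only [mul_assoc]
  calc w * u * w = w * u * w * u * w * (w⁻¹ * u⁻¹) := by group
    _ = u⁻¹ * w * u⁻¹ := by rw [h2, w_inv R, mul_assoc]

theorem w_U_w {s : ZMod 23} (hs : s ≠ 0) :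
    w * U u s * w = U u (-s⁻¹) * w * H h (s * s) * U u (-s⁻¹) := by
  have hb : s⁻¹ ≠ 0 := inv_ne_zero hs
  have key : H h s⁻¹ * (w * u * w) * (H h s⁻¹)⁻¹ = H h s⁻¹ * (u⁻¹ * w * u⁻¹) * (H h s⁻¹)⁻¹ := by
    rw [w_u_w R]
  rw [H_inv R hb, inv_inv] at key
  have hl : H h s⁻¹ * (w * u * w) * H h s = w * U u s * w := by
    calc H h s⁻¹ * (w * u * w) * H h s = (H h s⁻¹ * w) * u * (w * H h s) := by group
      _ = (w * H h s) * u * (H h s⁻¹ * w) := by rw [H_w R hb, inv_inv, w_H R hs]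
      _ = w * (H h s * u * (H h s)⁻¹) * w := by rw [H_inv R hs]; group
      _ = w * U u s * w := by
        conv_lhs => rw [← U_one R]
        rw [H_conj R hs, mul_one]
  rw [← hl, key]
  have hu1 : u⁻¹ = U u (-1) := by rw [← U_neg R, U_one R]
  rw [hu1]
  calc H h s⁻¹ * (U u (-1) * w * U u (-1)) * H h s
      = (H h s⁻¹ * U u (-1)) * w * (U u (-1) * H h s) := by group
    _ = U u (-s⁻¹) * (H h s⁻¹ * w) * H h s * U u (-1 / s) := by
      rw [H_U R hb, U_H R hs, mul_neg_one]; group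
    _ = U u (-s⁻¹) * w * (H h s * H h s) * U u (-1 / s) := by rw [H_w R hb, inv_inv]; group
    _ = U u (-s⁻¹) * w * H h (s * s) * U u (-s⁻¹) := by rw [H_mul R hs hs, neg_div, one_div]

theorem form_scalar {g : Matrix (Fin 2) (Fin 2) (ZMod 23)} {k : ZMod 23} (hk : k ≠ 0) :
    form u h w (k • g) = form u h w g := by
  simp only [form, Matrix.smul_apply, smul_eq_mul, mul_eq_zero, hk, false_or, mul_div_mul_left _ _ hk]
  split_ifs with hc
  · rfl
  · rw [show k * g 1 0 * (k * g 1 0) / (k • g).det = g 1 0 * g 1 0 / g.det by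
      rw [Matrix.det_smul, Fintype.card_fin]; field_simp]

theorem form_mul_U {g : Matrix (Fin 2) (Fin 2) (ZMod 23)} (hg : g.det ≠ 0) (s : ZMod 23) :
    form u h w (g * !![1, s; 0, 1]) = form u h w g * U u s := by
  have e10 : (g * !![1, s; 0, 1]) 1 0 = g 1 0 := by simp [Matrix.mul_apply, Fin.sum_univ_two]
  have e00 : (g * !![1, s; 0, 1]) 0 0 = g 0 0 := by simp [Matrix.mul_apply, Fin.sum_univ_two]
  have e01 : (g * !![1, s; 0, 1]) 0 1 = g 0 0 * s + g 0 1 := by simp [Matrix.mul_apply, Fin.sum_univ_two]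
  have e11 : (g * !![1, s; 0, 1]) 1 1 = g 1 0 * s + g 1 1 := by simp [Matrix.mul_apply, Fin.sum_univ_two]
  have ed : (g * !![1, s; 0, 1]).det = g.det := by simp [Matrix.det_fin_two_of]
  simp only [form, e10, e00, e01, e11, ed]
  split_ifs with hc
  · have h0 : g 0 0 ≠ 0 ∧ g 1 1 ≠ 0 := by
      rw [Matrix.det_fin_two, hc, mul_zero, sub_zero] at hg
      exact mul_ne_zero_iff.mp hg
    rw [hc, zero_mul, zero_add, mul_assoc, H_U R (div_ne_zero h0.1 h0.2), ← mul_assoc, U_add R]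
    congr 2
    field_simp
    ring
  · rw [mul_assoc (U u (g 0 0 / g 1 0) * w * _) , U_add R]
    congr 2
    field_simp
    ring

theorem form_mul_H {g : Matrix (Fin 2) (Fin 2) (ZMod 23)} (hg : g.det ≠ 0) {a : ZMod 23} (ha : a ≠ 0) :
    form u h w (g * !![a, 0; 0, 1]) = form u h w g * H h a := by
  have e10 : (g * !![a, 0; 0, 1]) 1 0 = g 1 0 * a := by simp [Matrix.mul_apply, Fin.sum_univ_two]
  have e00 : (g * !![a, 0; 0, 1]) 0 0 = g 0 0 * a := by simp [Matrix.mul_apply, Fin.sum_univ_two]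
  have e01 : (g * !![a, 0; 0, 1]) 0 1 = g 0 1 := by simp [Matrix.mul_apply, Fin.sum_univ_two]
  have e11 : (g * !![a, 0; 0, 1]) 1 1 = g 1 1 := by simp [Matrix.mul_apply, Fin.sum_univ_two]
  have ed : (g * !![a, 0; 0, 1]).det = g.det * a := by simp [Matrix.det_fin_two_of]
  simp only [form, e10, e00, e01, e11, ed, mul_eq_zero, ha, or_false]
  split_ifs with hc
  · have h0 : g 0 0 ≠ 0 ∧ g 1 1 ≠ 0 := by
      rw [Matrix.det_fin_two, hc, mul_zero, sub_zero] at hg
      exact mul_ne_zero_iff.mp hg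
    rw [mul_assoc, H_mul R (div_ne_zero h0.1 h0.2) ha, mul_div_right_comm]
  · rw [mul_assoc _ (U u (g 1 1 / g 1 0)) (H h a), U_H R ha, ← mul_assoc (a := U u _ * w * H h _) (b := H h a),
      mul_assoc (U u _ * w) (H h _) (H h a),
      H_mul R _ ha]
    · congr 2
      · rw [mul_div_mul_right _ _ ha]
      · congr 1
        field_simp
      · field_simp
    · exact div_ne_zero (mul_ne_zero hc hc) hg

theorem form_mul_W {g : Matrix (Fin 2) (Fin 2) (ZMod 23)} (hg : g.det ≠ 0) :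
    form u h w (g * Wm) = form u h w g * w := by
  have e10 : (g * Wm) 1 0 = g 1 1 := by simp [Wm, Matrix.mul_apply, Fin.sum_univ_two]
  have e00 : (g * Wm) 0 0 = g 0 1 := by simp [Wm, Matrix.mul_apply, Fin.sum_univ_two]
  have e01 : (g * Wm) 0 1 = -g 0 0 := by simp [Wm, Matrix.mul_apply, Fin.sum_univ_two]
  have e11 : (g * Wm) 1 1 = -g 1 0 := by simp [Wm, Matrix.mul_apply, Fin.sum_univ_two]
  have ed : (g * Wm).det = g.det := by simp [Wm, Matrix.det_fin_two_of]
  simp only [form, e10, e00, e01, e11, ed]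
  by_cases hc : g 1 0 = 0
  · have h0 : g 0 0 ≠ 0 ∧ g 1 1 ≠ 0 := by
      rw [Matrix.det_fin_two, hc, mul_zero, sub_zero] at hg
      exact mul_ne_zero_iff.mp hg
    rw [if_neg h0.2, if_pos hc, hc, neg_zero, zero_div, U_zero R, mul_one, mul_assoc (U u _) (H h _),
      H_w R (div_ne_zero h0.1 h0.2), ← mul_assoc]
    congr 2
    rw [Matrix.det_fin_two, hc, mul_zero, sub_zero]
    field_simp [h0.1, h0.2]
  · rw [if_neg hc]
    by_cases hd : g 1 1 = 0
    · rw [if_pos hd, hd, zero_div, U_zero R, mul_one, mul_assoc (U u (g 0 0 / g 1 0) * w),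
        H_w R (div_ne_zero (mul_ne_zero hc hc) hg), ← mul_assoc, mul_assoc (U u _) w w, R.ww, mul_one]
      congr 2
      · rw [neg_div_neg_eq]
      · rw [Matrix.det_fin_two, hd, mul_zero, zero_sub]
        field_simp
    · rw [if_neg hd]
      symm
      calc U u (g 0 0 / g 1 0) * w * H h (g 1 0 * g 1 0 / g.det) * U u (g 1 1 / g 1 0) * w
          = U u (g 0 0 / g 1 0) * H h (g 1 0 * g 1 0 / g.det)⁻¹ * (w * U u (g 1 1 / g 1 0) * w) := by
            rw [mul_assoc (U u (g 0 0 / g 1 0)) w, w_H R (div_ne_zero (mul_ne_zero hc hc) hg)]; group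
        _ = U u (g 0 0 / g 1 0) * (H h (g 1 0 * g 1 0 / g.det)⁻¹ * U u (-(g 1 1 / g 1 0)⁻¹)) * w *
              H h (g 1 1 / g 1 0 * (g 1 1 / g 1 0)) * U u (-(g 1 1 / g 1 0)⁻¹) := by
            rw [w_U_w R (div_ne_zero hd hc)]; group
        _ = (U u (g 0 0 / g 1 0) * U u ((g 1 0 * g 1 0 / g.det)⁻¹ * -(g 1 1 / g 1 0)⁻¹)) *
              (H h (g 1 0 * g 1 0 / g.det)⁻¹ * w) *
              H h (g 1 1 / g 1 0 * (g 1 1 / g 1 0)) * U u (-(g 1 1 / g 1 0)⁻¹) := by
            rw [H_U R (inv_ne_zero (div_ne_zero (mul_ne_zero hc hc) hg))]; group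
        _ = _ := by
            rw [U_add R, H_w R (inv_ne_zero (div_ne_zero (mul_ne_zero hc hc) hg)), inv_inv, ← mul_assoc,
              mul_assoc (_ * w) (H h _) (H h _), H_mul R (div_ne_zero (mul_ne_zero hc hc) hg)
                (mul_ne_zero (div_ne_zero hd hc) (div_ne_zero hd hc))]
            congr 2
            · congr 2
              field_simp
              rw [Matrix.det_fin_two]
              ring
            · congr 1
              field_simp
            · field_simp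

theorem form_eq_of_upper {g : Matrix (Fin 2) (Fin 2) (ZMod 23)} (hg : g 1 0 = 0) :
    form u h w g = U u (g 0 1 / g 1 1) * H h (g 0 0 / g 1 1) := by rw [form, if_pos hg]

theorem form_W : form u h w Wm = w := by
  simp [Wm, form, Matrix.det_fin_two_of, U_zero R, H_one R]

theorem form_one : form u h w 1 = 1 := by
  rw [form_eq_of_upper R (by simp)]; simp [U_zero R, H_one R]

/-- the homomorphism -/
theorem form_mul (g k : GL (Fin 2) (ZMod 23)) :
    form u h w ((g * k : GL (Fin 2) (ZMod 23)) : Matrix (Fin 2) (Fin 2) (ZMod 23)) =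
      form u h w g * form u h w k := by
  set P : Matrix (Fin 2) (Fin 2) (ZMod 23) → Prop := fun m =>
    ∀ g : Matrix (Fin 2) (Fin 2) (ZMod 23), g.det ≠ 0 → form u h w (g * m) = form u h w g * form u h w m
  have hmul : ∀ a b, a.det ≠ 0 → P a → P b → P (a * b) := fun a b hda ha hb m hm => by
    rw [← mul_assoc, hb _ (by rw [Matrix.det_mul]; exact mul_ne_zero hm hda), ha m hm, hb a hda, mul_assoc]
  have hU : ∀ s, P !![1, s; 0, 1] := fun s m hm => by
    rw [form_mul_U R hm, form_eq_of_upper R (g := !![1, s; 0, 1]) rfl]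
    simp [H_one R]
  have hH : ∀ a : ZMod 23, a ≠ 0 → P !![a, 0; 0, 1] := fun a ha m hm => by
    rw [form_mul_H R hm ha, form_eq_of_upper R (g := !![a, 0; 0, 1]) rfl]
    simp [U_zero R]
  have hW : P Wm := fun m hm => by rw [form_mul_W R hm, form_W R]
  have hS : ∀ (c : ZMod 23) (m : Matrix (Fin 2) (Fin 2) (ZMod 23)), c ≠ 0 → P m → P (c • m) :=
    fun c m hc hm n hn => by rw [Matrix.mul_smul, form_scalar R hc, form_scalar R hc, hm n hn]
  have hk : (k : Matrix (Fin 2) (Fin 2) (ZMod 23)).det ≠ 0 :=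
    (Matrix.GeneralLinearGroup.det k).ne_zero
  have hall : P (k : Matrix (Fin 2) (Fin 2) (ZMod 23)) := by
    generalize (k : Matrix (Fin 2) (Fin 2) (ZMod 23)) = m at hk ⊢
    have hd := hk
    rw [Matrix.det_fin_two] at hd
    by_cases hc : m 1 0 = 0
    · rw [hc, mul_zero, sub_zero, mul_ne_zero_iff] at hd
      have : m = m 1 1 • (!![1, m 0 1 / m 1 1; 0, 1] * !![m 0 0 / m 1 1, 0; 0, 1]) := by
        ext i j
        fin_cases i <;> fin_cases j <;>
          simp [Matrix.mul_apply, Fin.sum_univ_two, hc, mul_div_cancel₀ _ hd.2]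
      rw [this]
      exact hS _ _ hd.2 (hmul _ _ (by simp [Matrix.det_fin_two_of]) (hU _) (hH _ (div_ne_zero hd.1 hd.2)))
    · set r := m 1 0 * m 1 0 / m.det with hr
      have hr0 : r ≠ 0 := div_ne_zero (mul_ne_zero hc hc) hk
      have : m = (m.det / m 1 0) • (!![1, m 0 0 / m 1 0; 0, 1] * Wm * !![r, 0; 0, 1] *
          !![1, m 1 1 / m 1 0; 0, 1]) := by
        rw [hr]
        generalize hD : m.det = D at hk ⊢
        rw [Matrix.det_fin_two] at hD
        ext i j
        fin_cases i <;> fin_cases j <;> simp [Wm, Matrix.mul_apply, Fin.sum_univ_two]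
        · field_simp
        · field_simp
          linear_combination -hD
        · field_simp
        · field_simp
      rw [this]
      refine hS _ _ (div_ne_zero hk hc) (hmul _ _ ?_ (hmul _ _ ?_ (hmul _ _ ?_ (hU _) hW) (hH _ hr0)) (hU _))
      all_goals simp [Wm, Matrix.det_fin_two_of, hr0]
  rw [Units.val_mul]
  exact hall _ (Matrix.GeneralLinearGroup.det g).ne_zero

/-- the homomorphism -/
def hom : GL (Fin 2) (ZMod 23) →* G :=
  MonoidHom.mk' (fun g => form u h w (g : Matrix (Fin 2) (Fin 2) (ZMod 23))) (form_mul R)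

theorem H_eq_one {a : ZMod 23} (ha : a ≠ 0) (h1 : H h a = 1) : a = 1 := by
  have := H_conj R ha 1
  rw [h1, one_mul, inv_one, mul_one, mul_one, U_one R] at this
  have h2 : u ^ (a.val) = u ^ 1 := by rw [pow_one]; exact this.symm
  have ho : orderOf u = 23 := orderOf_eq_prime R.u23 R.u_ne
  rw [pow_inj_mod, ho, Nat.mod_eq_of_lt (ZMod.val_lt a)] at h2
  exact ZMod.val_injective 23 (by rw [h2, ZMod.val_one])

theorem U_eq_one {s : ZMod 23} (h1 : U u s = 1) : s = 0 := by
  have ho : orderOf u = 23 := orderOf_eq_prime R.u23 R.u_ne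
  have h2 := orderOf_dvd_of_pow_eq_one h1
  rw [ho] at h2
  exact (ZMod.val_eq_zero s).mp (Nat.eq_zero_of_dvd_of_lt h2 (ZMod.val_lt s))

theorem w_ne_one : w ≠ 1 := by
  intro h1
  have h2 := R.wh
  rw [h1, one_mul, mul_one] at h2
  have h3 : H h 5 = H h (5 : ZMod 23)⁻¹ := by
    rw [← H_inv R (by decide), H, lg_five, pow_one]; exact h2
  have h4 := H_eq_one R (a := (25 : ZMod 23)) (by decide) (by
    rw [show (25 : ZMod 23) = 5 * 5 by decide, ← H_mul R (by decide) (by decide)]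
    nth_rewrite 1 [h3]
    rw [H_mul R (inv_ne_zero (by decide)) (by decide), inv_mul_cancel₀ (by decide), H_one R])
  exact absurd h4 (by decide)

theorem w_not_upper (s : ZMod 23) {a : ZMod 23} (ha : a ≠ 0) : w ≠ U u s * H h a := by
  intro h1
  have h2 : w * u * w⁻¹ = U u a := by
    rw [h1, mul_inv_rev]
    calc U u s * H h a * u * ((H h a)⁻¹ * (U u s)⁻¹)
        = U u s * (H h a * U u 1 * (H h a)⁻¹) * (U u s)⁻¹ := by rw [U_one R]; group
      _ = U u a := by rw [H_conj R ha, U_neg R, U_add R, U_add R, mul_one]; congr 1; ring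
  rw [w_inv R, w_u_w R] at h2
  have h3 : w = U u (1 + a + 1) := by
    rw [← U_add R, ← U_add R, U_one R, ← h2]; group
  have h4 := R.ww
  rw [h3, U_add R] at h4
  have h5 : (1 : ZMod 23) + a + 1 = 0 := by
    have h6 := U_eq_one R h4
    have h7 : (2 : ZMod 23) * (1 + a + 1) = 0 := by rw [two_mul]; exact h6
    rcases mul_eq_zero.mp h7 with h8 | h8
    · exact absurd h8 (by decide)
    · exact h8
  rw [h5, U_zero R] at h3
  exact w_ne_one R h3

theorem upper_eq_one {s a : ZMod 23} (ha : a ≠ 0) (h1 : U u s * H h a = 1) : s = 0 ∧ a = 1 := by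
  have h2 := H_conj R ha 1
  rw [show H h a = (U u s)⁻¹ from eq_inv_of_mul_eq_one_right h1, U_neg R, U_neg R, U_add R, U_add R,
    mul_one, neg_neg, show -s + 1 + s = 1 by ring] at h2
  have h3 : (1 : ZMod 23) = a := by
    have := (mul_inv_eq_one (a := U u 1) (b := U u a)).mpr h2
    rw [U_neg R, U_add R] at this
    exact add_neg_eq_zero.mp (U_eq_one R this)
  rw [← h3, H_one R, mul_one] at h1
  exact ⟨U_eq_one R h1, h3.symm⟩

theorem ker_hom : (hom R).ker = Subgroup.center (GL (Fin 2) (ZMod 23)) := by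
  ext g
  have hd : (g : Matrix (Fin 2) (Fin 2) (ZMod 23)).det ≠ 0 := (Matrix.GeneralLinearGroup.det g).ne_zero
  have hd' := hd
  rw [Matrix.det_fin_two] at hd'
  rw [MonoidHom.mem_ker, Subgroup.mem_center_iff, show hom R g = form u h w g.1 from rfl]
  constructor
  · intro h1
    by_cases hc : g.1 1 0 = 0
    · rw [form_eq_of_upper R hc] at h1
      rw [hc, mul_zero, sub_zero, mul_ne_zero_iff] at hd'
      obtain ⟨h01, h00⟩ := upper_eq_one R (div_ne_zero hd'.1 hd'.2) h1
      rw [div_eq_zero_iff] at h01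
      rw [div_eq_one_iff_eq hd'.2] at h00
      have h01' := h01.resolve_right hd'.2
      intro k
      apply Units.ext
      ext i j
      fin_cases i <;> fin_cases j <;>
        simp [Matrix.mul_apply, Fin.sum_univ_two, hc, h01', h00, mul_comm]
    · exfalso
      rw [form, if_neg hc] at h1
      set p := g.1 0 0 / g.1 1 0
      set r := g.1 1 0 * g.1 1 0 / g.1.det
      set q := g.1 1 1 / g.1 1 0
      have hr : r ≠ 0 := div_ne_zero (mul_ne_zero hc hc) hd
      apply w_not_upper R (-p + r⁻¹ * -(r * q)) (inv_ne_zero hr)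
      calc w = (U u p)⁻¹ * (U u p * w * H h r * U u q) * ((U u q)⁻¹ * (H h r)⁻¹) := by group
        _ = U u (-p) * (U u (-q) * H h r⁻¹) := by rw [h1, U_neg R, U_neg R, H_inv R hr]; group
        _ = _ := by
          rw [← mul_assoc, U_add R]
          congr 2
          field_simp
  · intro hg
    have h1 := congrArg Units.val (hg (Matrix.GeneralLinearGroup.mkOfDetNeZero !![1, 1; 0, 1] (by simp [Matrix.det_fin_two_of])))
    have h2 := congrArg Units.val (hg (Matrix.GeneralLinearGroup.mkOfDetNeZero !![1, 0; 1, 1] (by simp [Matrix.det_fin_two_of])))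
    simp only [Units.val_mul] at h1 h2
    have a := congrFun (congrFun h1 0) 1
    have b := congrFun (congrFun h1 1) 1
    have c := congrFun (congrFun h2 1) 1
    simp [Matrix.GeneralLinearGroup.mkOfDetNeZero, Matrix.mul_apply, Fin.sum_univ_two] at a b c
    rw [b, mul_zero, sub_zero, mul_ne_zero_iff] at hd'
    rw [form_eq_of_upper R b, c, zero_div, U_zero R, one_mul]
    rw [show g.1 0 0 = g.1 1 1 by linear_combination -a, div_self hd'.2, H_one R]

include R in
/-- The relations give a subgroup isomorphic to `PGL(2, 23)`. -/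
theorem exists_pgl :
    ∃ K : Subgroup G, Nonempty (↥K ≃* GL (Fin 2) (ZMod 23) ⧸ Subgroup.center (GL (Fin 2) (ZMod 23))) :=
  ⟨(hom R).range, ⟨((QuotientGroup.quotientMulEquivOfEq (ker_hom R).symm).trans
    (QuotientGroup.quotientKerEquivRange (hom R))).symm⟩⟩

end Cfsg.Agent.H33.J4Pgl
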